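import Cfsg.Agent.H802.FusGroup

/-!
# The fusion system of a group with a normal Sylow subgroup (helper775)
-/

set_option autoImplicit false

namespace Cfsg.Agent.H775.Borel

open Cfsg Cfsg.FusionSystem Cfsg.Agent.H802

variable {Ω : Type*} [Group Ω] {B T : Subgroup Ω}

theorem fullyNormalized [Finite Ω] (hTB : T ≤ B) (hn : ∀ b ∈ B, ∀ x ∈ T, b * x * b⁻¹ ∈ T) {E : Subgroup Ω} (hE : E ≤ T) :
    (fusionSystemOfSubgroup B T hTB).IsFullyNormalized E := by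
  refine ⟨hE, ?_⟩
  rintro _ ⟨φ, ⟨-, -, b, hb, hφ⟩, rfl⟩
  have key : ∀ y ∈ normalizerIn T φ.range, b⁻¹ * y * b ∈ normalizerIn T E := by
    rintro y ⟨hyT, hyN⟩
    have hbi := hn b⁻¹ (B.inv_mem hb) y hyT
    rw [inv_inv] at hbi
    refine ⟨hbi, ?_⟩
    have hmem : ∀ z, z ∈ E ↔ b * z * b⁻¹ ∈ φ.range := by
      intro z
      constructor
      · intro hz
        exact ⟨⟨z, hz⟩, hφ ⟨z, hz⟩⟩
      · rintro ⟨w, hw⟩
        rw [hφ] at hw
        have := mul_left_cancel (mul_right_cancel hw)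
        rw [← this]
        exact w.2
    refine Subgroup.mem_normalizer_iff.2 fun z => ?_
    rw [hmem, hmem]
    have h2 := Subgroup.mem_normalizer_iff.1 hyN (b * z * b⁻¹)
    have h3 : y * (b * z * b⁻¹) * y⁻¹ = b * (b⁻¹ * y * b * z * (b⁻¹ * y * b)⁻¹) * b⁻¹ := by group
    rw [h2, h3]
  refine Nat.card_le_card_of_injective (fun y : normalizerIn T φ.range => (⟨b⁻¹ * y * b, key y y.2⟩ : normalizerIn T E)) ?_
  intro x y hxy
  have h2 : b⁻¹ * (x : Ω) * b = b⁻¹ * y * b := congrArg Subtype.val hxy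
  exact Subtype.ext (mul_left_cancel (mul_right_cancel h2))

theorem centric (hTB : T ≤ B) (hn : ∀ b ∈ B, ∀ x ∈ T, b * x * b⁻¹ ∈ T) {E : Subgroup Ω} (hE : E ≤ T)
    (hC : ∀ x ∈ T, (∀ y ∈ E, y * x = x * y) → x ∈ E) :
    (fusionSystemOfSubgroup B T hTB).IsCentric E := by
  refine ⟨hE, ?_⟩
  rintro _ ⟨φ, ⟨-, -, b, hb, hφ⟩, rfl⟩ x ⟨hxT, hxC⟩
  have hbi := hn b⁻¹ (B.inv_mem hb) x hxT
  rw [inv_inv] at hbi
  have h1 : b⁻¹ * x * b ∈ E := by
    refine hC _ hbi (fun y hy => ?_)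
    have h2 := Subgroup.mem_centralizer_iff.1 hxC (φ ⟨y, hy⟩) ⟨_, rfl⟩
    rw [hφ] at h2
    have h3 : y * (b⁻¹ * x * b) = b⁻¹ * (b * y * b⁻¹ * x) * b := by group
    rw [h3, h2]
    group
  refine ⟨⟨_, h1⟩, ?_⟩
  rw [hφ]
  show b * (b⁻¹ * x * b) * b⁻¹ = x
  group

theorem not_centric {F : FusionSystem T} {E P : Subgroup Ω} (hE : E ≤ T) (hab : ∀ x ∈ E, ∀ y ∈ E, x * y = y * x)
    (hP : P < E) : ¬ F.IsCentric P := by
  intro h
  have h1 : E ≤ P := by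
    intro x hx
    refine h.2 P ?_ ⟨hE hx, ?_⟩
    · exact ⟨P.subtype, subtype_mem F h.1, Subgroup.range_subtype P⟩
    · refine Subgroup.mem_centralizer_iff.2 fun y hy => ?_
      exact hab y (hP.le hy) x hx
  exact hP.not_ge h1

end Cfsg.Agent.H775.Borel
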