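import Cfsg.Agent.H775.Th.Sat
import Cfsg.Agent.H777.PGrp
import Cfsg.Agent.H759.FusNormal

/-!
# The strongly closed subgroups of the system over `Tg` (helper775)
-/

set_option autoImplicit false
set_option linter.unusedSimpArgs false

namespace Cfsg.Agent.H775.Th

open Cfsg Cfsg.FusionSystem Cfsg.Agent.H777.Th3 Dat Cfsg.Agent.ChevalleyStructure.NineField Cfsg.Agent.H802
open Cfsg.Agent.H775

variable {G : Type*} [Group G] {D : Dat G} {t : G}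

theorem fix_l' : ∀ e : V5, (T 1 0 0 0 e = e ∧ T 0 0 1 0 e = e ∧ T 0 0 0 1 e = e) → e.2.2 = (0, 0, 0) := by
  decide +kernel

theorem fix_l (e : V5) (h1 : T 1 0 0 0 e = e) (h2 : T 0 0 1 0 e = e) (h3 : T 0 0 0 1 e = e) : e.2.2 = 0 :=
  fix_l' e ⟨h1, h2, h3⟩

theorem thi_zero : thi 0 = 0 := by decide
theorem thi_zero' : thi (0, 0, 0) = 0 := by decide

theorem dz1 : ((1, 0, 0, 0, 0) : V5).2.2.1 - ((1, 0, 0, 0, 0) : V5).2.2.2.1 - ((1, 0, 0, 0, 0) : V5).2.2.2.2 = 0 := by decide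
theorem dz2 : ((0, 1, 0, 0, 0) : V5).2.2.1 - ((0, 1, 0, 0, 0) : V5).2.2.2.1 - ((0, 1, 0, 0, 0) : V5).2.2.2.2 = 0 := by decide
theorem dz3 : ((0, 0, 1, 1, 0) : V5).2.2.1 - ((0, 0, 1, 1, 0) : V5).2.2.2.1 - ((0, 0, 1, 1, 0) : V5).2.2.2.2 = 0 := by decide
theorem dz4 : ((0, 0, 1, 0, 1) : V5).2.2.1 - ((0, 0, 1, 0, 1) : V5).2.2.2.1 - ((0, 0, 1, 0, 1) : V5).2.2.2.2 = 0 := by decide

theorem dec_all : ∀ f : V5, ∃ i j k l m : ZMod 3, f = i.val • ((1, 0, 0, 0, 0) : V5) + j.val • ((0, 1, 0, 0, 0) : V5) +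
    k.val • (T 0 0 1 0 (0, 0, 1, 0, 0) + (2, 0, 2, 1, 0) + -(0, 0, 1, 0, 0)) +
    l.val • (T 0 0 0 1 (0, 0, 1, 0, 0) + (2, 2, 2, 0, 2) + -(0, 0, 1, 0, 0)) +
    m.val • (T 0 0 1 0 (0, 0, 1, 0, 0) + (1, 2, 0, 1, 2) + -(0, 0, 1, 0, 0)) := by
  decide +kernel

/-- the centre of `Tg` -/
theorem center_Tg (h1 : D.u1 ≠ 1) {x : G} (hx : x ∈ D.Tg) (hc : ∀ s ∈ D.Tg, x * s = s * x) :
    ∃ e : V5, e.2.2 = 0 ∧ x = D.uu e := by
  have hU : x ∈ D.U := mem_U_of_act h1 (D.Tg_le_Sg hx) (act_of_comm (fun y hy => (hc y (D.U_le_Tg hy)).symm))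
  obtain ⟨e, rfl⟩ := (D.mem_U).1 hU
  have key : ∀ {s : G} {f : V5 → V5}, s ∈ D.Tg → D.Act s f → f e = e := by
    intro s f hs hf
    apply uu_injective h1
    rw [← hf e, mul_assoc, hc s hs, inv_mul_cancel_left]
  exact ⟨e, fix_l e (key D.v1_Tg D.act_v1) (key D.r1_Tg D.act_r1) (key D.r2_Tg D.act_r2), rfl⟩

/-- **the strongly closed subgroups contain `N`** -/
theorem TRel.N_le (h : TRel D t) (h1 : D.u1 ≠ 1) {A : Subgroup G} (hA : (Ext.ext h.F0 Vs_le_Tg (Phi (D := D) h1).range).StronglyClosed A)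
    (hne : A ≠ ⊥) : D.N ≤ A := by
  have : Fact (Nat.Prime 3) := ⟨Nat.prime_three⟩
  have hfin : Finite D.Tg := Nat.finite_of_card_ne_zero (by rw [card_Tg h1]; norm_num)
  -- `A` is normalized by `Tg`
  have hcj : ∀ s ∈ D.Tg, ∀ a ∈ A, s * a * s⁻¹ ∈ A := by
    intro s hs a ha
    exact hA.2 A le_rfl _ ((Ext.ext h.F0 Vs_le_Tg (Phi (D := D) h1).range).conj_mem hA.1 hs) ⟨a, ha⟩
  have hcj' : ∀ s ∈ D.Tg, ∀ a ∈ A, s⁻¹ * a * s ∈ A := by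
    intro s hs a ha
    have := hcj s⁻¹ (D.Tg.inv_mem hs) a ha
    rwa [inv_inv] at this
  -- a central element
  obtain ⟨a, haA, ha1, hac⟩ : ∃ a ∈ A, a ≠ 1 ∧ ∀ s ∈ D.Tg, a * s = s * a := by
    have hn : (A.subgroupOf D.Tg).Normal := ⟨fun a ha s => hcj s s.2 a ha⟩
    have hb : A.subgroupOf D.Tg ≠ ⊥ := by
      intro h
      apply hne
      rw [Subgroup.subgroupOf_eq_bot] at h
      exact le_bot_iff.1 (fun x hx => h.le_bot ⟨hx, hA.1 hx⟩)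
    obtain ⟨b, hb, hb1, hbc⟩ := Cfsg.Agent.H777.PGrp.inf_center_ne_bot (IsPGroup.of_card (card_Tg h1)) hb hn
    refine ⟨b, hb, fun h => hb1 (Subtype.ext h), fun s hs => ?_⟩
    exact (congrArg Subtype.val (hbc ⟨s, hs⟩)).symm
  obtain ⟨e, he, rfl⟩ := center_Tg h1 (hA.1 haA) hac
  -- the automorphisms in `Δ`
  have hact : ∀ (M : SL) (f : V5), D.vv f ∈ A → D.vv (act M f) ∈ A := by
    intro M f hf
    have h2 : Phi h1 M ∈ (Phi (D := D) h1).range := ⟨M, rfl⟩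
    have h3 := Ext.delta_mem_ext (F₀ := h.F0) Vs_le_Tg h2
    have h4 := hA.2 (A ⊓ D.Vs) inf_le_left _ (restrict_mem h3 inf_le_right) ⟨D.vv f, hf, D.vv_mem f⟩
    rw [← Phi_apply h1]
    exact h4
  have hev : D.vv e ∈ A := by
    rw [vv_W e (by rw [he]; rfl)]
    exact haA
  have he0 : (th e).1 ≠ 0 := by
    intro h0
    have h2 : th e = 0 := by
      refine Prod.ext h0 (Prod.ext ?_ ?_)
      · show mk3 (e.2.2.2.1 + e.2.2.2.2) e.2.2.2.2 = 0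
        rw [he]; rfl
      · show e.2.2.1 - e.2.2.2.1 - e.2.2.2.2 = 0
        rw [he]; rfl
    have h3 : e = 0 := by
      rw [← thi_th e, h2, thi_zero]
    rw [h3, uu_zero] at ha1
    exact ha1 rfl
  have hth : th e = ((th e).1, 0, 0) := by
    refine Prod.ext rfl (Prod.ext ?_ ?_)
    · show mk3 (e.2.2.2.1 + e.2.2.2.2) e.2.2.2.2 = 0
      rw [he]; rfl
    · show e.2.2.1 - e.2.2.2.1 - e.2.2.2.2 = 0
      rw [he]; rfl
  have hV4 : ∀ x' y' : F9, D.vv (thi (x', y', 0)) ∈ A := by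
    intro x' y'
    by_cases hxy : x' = 0 ∧ y' = 0
    · obtain ⟨rfl, rfl⟩ := hxy
      rw [thi_zero', vv_zero]
      exact A.one_mem
    · obtain ⟨M, hM⟩ := exists_mact he0 hxy
      have h2 := hact M e hev
      unfold act at h2
      rw [hth, hM] at h2
      exact h2
  have hV4' : ∀ f : V5, f.2.2.1 - f.2.2.2.1 - f.2.2.2.2 = 0 → D.vv f ∈ A := by
    intro f hf
    have h2 := hV4 (th f).1 (th f).2.1
    have h3 : ((th f).1, (th f).2.1, (0 : ZMod 3)) = th f := Prod.ext rfl (Prod.ext rfl hf.symm)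
    rw [h3, thi_th] at h2
    exact h2
  -- elements of `U`
  have hsum : ∀ {e f : V5}, D.uu e ∈ A → D.uu f ∈ A → D.uu (e + f) ∈ A := by
    intro e f he hf
    rw [uu_add]
    exact A.mul_mem he hf
  have hsmul : ∀ {e : V5} (n : ℕ), D.uu e ∈ A → D.uu (n • e) ∈ A := by
    intro e n he
    rw [uu_nsmul]
    exact A.pow_mem he n
  have hu1 : D.uu (1, 0, 0, 0, 0) ∈ A := by
    rw [← vv_W _ rfl]
    exact hV4' _ dz1
  have hu2 : D.uu (0, 1, 0, 0, 0) ∈ A := by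
    rw [← vv_W _ rfl]
    exact hV4' _ dz2
  have hx : D.uu (0, 0, 1, 0, 0) * D.v1 ∈ A := by
    have := hV4' (0, 0, 1, 1, 0) dz3
    have e2 : D.vv (0, 0, 1, 1, 0) = D.uu (0, 0, 1, 0, 0) * D.v1 := by
      unfold vv vab; simp [ZMod.val_one]
    rwa [e2] at this
  have hz : D.uu (0, 0, 1, 0, 0) * D.v2 ∈ A := by
    have := hV4' (0, 0, 1, 0, 1) dz4
    have e2 : D.vv (0, 0, 1, 0, 1) = D.uu (0, 0, 1, 0, 0) * D.v2 := by
      unfold vv vab; simp [ZMod.val_one]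
    rwa [e2] at this
  -- conjugation
  have hcv : ∀ {s v : G} {f : V5 → V5} {g : V5}, s ∈ D.Tg → D.Act s f → s⁻¹ * v * s = D.uu g * v →
      D.uu (0, 0, 1, 0, 0) * v ∈ A → D.uu (f (0, 0, 1, 0, 0) + g + -(0, 0, 1, 0, 0)) ∈ A := by
    intro s v f g hs hf hg hv
    have h2 := hcj' s hs _ hv
    have h3 : s⁻¹ * (D.uu (0, 0, 1, 0, 0) * v) * s = (s⁻¹ * D.uu (0, 0, 1, 0, 0) * s) * (s⁻¹ * v * s) := by group
    rw [h3, hf, hg] at h2
    have h4 := A.mul_mem h2 (A.inv_mem hv)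
    have h5 : D.uu (f (0, 0, 1, 0, 0)) * (D.uu g * v) * (D.uu (0, 0, 1, 0, 0) * v)⁻¹ =
        D.uu (f (0, 0, 1, 0, 0)) * D.uu g * (D.uu (0, 0, 1, 0, 0))⁻¹ := by group
    rwa [h5, ← uu_neg, ← uu_add, ← uu_add] at h4
  have g1 : D.r1⁻¹ * D.v1 * D.r1 = D.uu (2, 0, 2, 1, 0) * D.v1 := by
    have := conj_eq_of (x := D.v1) (s := D.r1) (y := D.u1 ^ 2 * D.u3 ^ 2 * D.u4 * D.v1) (by rw [D.j_v1_r1]; simp only [mul_assoc])
    rw [this]
    unfold uu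
    simp [ZMod.val_one, val_two]
  have g2 : D.r2⁻¹ * D.v1 * D.r2 = D.uu (2, 2, 2, 0, 2) * D.v1 := by
    have := conj_eq_of (x := D.v1) (s := D.r2) (y := D.u1 ^ 2 * D.u2 ^ 2 * D.u3 ^ 2 * D.u5 ^ 2 * D.v1)
      (by rw [D.j_v1_r2]; simp only [mul_assoc])
    rw [this]
    unfold uu
    simp [ZMod.val_one, val_two]
  have g3 : D.r1⁻¹ * D.v2 * D.r1 = D.uu (1, 2, 0, 1, 2) * D.v2 := by
    have := conj_eq_of (x := D.v2) (s := D.r1) (y := D.u1 * D.u2 ^ 2 * D.u4 * D.u5 ^ 2 * D.v2)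
      (by rw [D.j_v2_r1]; simp only [mul_assoc])
    rw [this]
    unfold uu
    simp [ZMod.val_one, val_two]
  have k1 := hcv D.r1_Tg D.act_r1 g1 hx
  have k2 := hcv D.r2_Tg D.act_r2 g2 hx
  have k3 := hcv D.r1_Tg D.act_r1 g3 hz
  have hUall : ∀ f : V5, D.uu f ∈ A := by
    intro f
    obtain ⟨i, j, k, l, m, hf⟩ := dec_all f
    rw [hf]
    exact hsum (hsum (hsum (hsum (hsmul _ hu1) (hsmul _ hu2)) (hsmul _ k1)) (hsmul _ k2)) (hsmul _ k3)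
  have hUA : D.U ≤ A := by
    intro x hx
    obtain ⟨f, rfl⟩ := (D.mem_U).1 hx
    exact hUall f
  have hv1 : D.v1 ∈ A := by
    have := A.mul_mem (A.inv_mem (hUall (0, 0, 1, 0, 0))) hx
    rwa [inv_mul_cancel_left] at this
  have hv2 : D.v2 ∈ A := by
    have := A.mul_mem (A.inv_mem (hUall (0, 0, 1, 0, 0))) hz
    rwa [inv_mul_cancel_left] at this
  exact adj_le (adj_le hUA hv1) hv2

/-- `N` is normal in `B` -/
theorem TRel.B_conj_N (h : TRel D t) (h1 : D.u1 ≠ 1) {b x : G} (hb : b ∈ h.B) (hx : x ∈ D.N) : b * x * b⁻¹ ∈ D.N := by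
  have ht : ∀ x ∈ D.N, t⁻¹ * x * t ∈ D.N := by
    have m1 := D.U_le_N D.u1_mem
    have m2 := D.U_le_N D.u2_mem
    have m3 := D.U_le_N D.u3_mem
    have m4 := D.U_le_N D.u4_mem
    have m5 := D.U_le_N D.u5_mem
    have n1 := D.v1_N
    have n2 := D.v2_N
    have M : ∀ {x y : G}, x ∈ D.N → y ∈ D.N → x * y ∈ D.N := fun hx hy => D.N.mul_mem hx hy
    have P : ∀ {x : G}, x ∈ D.N → ∀ n : ℕ, x ^ n ∈ D.N := fun hx n => D.N.pow_mem hx n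
    have k1 : t⁻¹ * D.u1 * t = D.u1 * D.u2 ^ 2 := conj_eq_of (by rw [h.u1, mul_assoc])
    have k2 : t⁻¹ * D.u2 * t = D.u1 ^ 2 := conj_eq_of h.u2
    have k3 : t⁻¹ * D.u3 * t = D.u3 := conj_eq_of h.u3
    have k4 : t⁻¹ * D.u4 * t = D.u3 ^ 2 * D.u5 ^ 2 := conj_eq_of (by rw [h.u4]; simp only [mul_assoc])
    have k5 : t⁻¹ * D.u5 * t = D.u3 * D.u4 := conj_eq_of (by rw [h.u5]; simp only [mul_assoc])
    have k6 : t⁻¹ * D.v1 * t = D.u1 ^ 2 * D.u2 * D.v2 := conj_eq_of (by rw [h.v1]; simp only [mul_assoc])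
    have k7 : t⁻¹ * D.v2 * t = D.u1 * D.u3 ^ 2 * (D.v1 * D.v2 ^ 2) :=
      conj_eq_of (by rw [h.v2]; simp only [mul_assoc])
    refine adj_conj (adj_conj (conj_uu_mem ?_ ?_ ?_ ?_ ?_) ?_) ?_
    · rw [k1]; exact M m1 (P m2 2)
    · rw [k2]; exact P m1 2
    · rw [k3]; exact m3
    · rw [k4]; exact M (P m3 2) (P m5 2)
    · rw [k5]; exact M m3 m4
    · rw [k6]; exact M (M (P m1 2) m2) n2
    · rw [k7]; exact M (M m1 (P m3 2)) (M n1 (P n2 2))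
  have htn : ∀ n : ℕ, ∀ x ∈ D.N, (t ^ n)⁻¹ * x * t ^ n ∈ D.N := by
    intro n
    induction n with
    | zero => intro x hx; rw [pow_zero, inv_one, one_mul, mul_one]; exact hx
    | succ n ih =>
      intro x hx
      have h2 := ht _ (ih x hx)
      have h3 : (t ^ (n + 1))⁻¹ * x * t ^ (n + 1) = t⁻¹ * ((t ^ n)⁻¹ * x * t ^ n) * t := by
        rw [pow_succ]; group
      rw [h3]
      exact h2
  obtain ⟨s, hs, n, rfl⟩ := hb
  have h2 := htn (7 * n) x hx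
  rw [← h.inv_pow, inv_inv] at h2
  have h3 := conj_N h1 (D.Tg.inv_mem hs) h2
  have h4 : s⁻¹⁻¹ * (t ^ n * x * (t ^ n)⁻¹) * s⁻¹ = s * t ^ n * x * (s * t ^ n)⁻¹ := by group
  rwa [h4] at h3

/-- `N` is closed -/
theorem TRel.N_closed (h : TRel D t) (h1 : D.u1 ≠ 1) {P : Subgroup G} {φ : P →* G}
    (hφ : φ ∈ (Ext.ext h.F0 Vs_le_Tg (Phi (D := D) h1).range).Hom P) : ∀ x : P, (x : G) ∈ D.N → φ x ∈ D.N := by
  have hφ' : Ext.Gen (Ext.fam h.F0 D.Vs (Phi (D := D) h1).range) P φ := hφ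
  clear hφ
  induction hφ' with
  | @base P φ h2 =>
    intro x hx
    rcases h2 with ⟨-, -, b, hb, h2⟩ | ⟨hP, δ, hδ, h2⟩
    · rw [h2]
      exact h.B_conj_N h1 hb hx
    · rw [h2]
      exact Vs_le_N (δ _).2
  | @comp P Q φ ψ h2 h3 h4 ih1 ih2 =>
    intro x hx
    exact ih2 ⟨φ x, h4 x⟩ (ih1 x hx)

theorem TRel.N_stronglyClosed (h : TRel D t) (h1 : D.u1 ≠ 1) :
    (Ext.ext h.F0 Vs_le_Tg (Phi (D := D) h1).range).StronglyClosed D.N :=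
  ⟨D.N_le_Tg, fun _ hR _ hφ x => h.N_closed h1 hφ x (hR x.2)⟩

/-- the Weyl element -/
def wey : SL := ⟨!![0, 1; -1, 0], by simp [Matrix.det_fin_two]⟩

theorem TRel.delta_not_le (h : TRel D t) (h1 : D.u1 ≠ 1) : ¬ (Phi (D := D) h1).range ≤ h.F0.autGroup D.Vs := by
  intro hle
  obtain ⟨M, hM, he⟩ := (h.mem_aut0_iff h1).1 (hle ⟨wey, rfl⟩)
  have h2 := Phi_injective h1 he
  rw [← h2] at hM
  have h3 : (-1 : F9) = 0 := hM
  exact absurd h3 (by decide)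

theorem u4_not_Vs (h1 : D.u1 ≠ 1) : D.u4 ∉ D.Vs := by
  intro h
  have h2 : D.Eta D.u4 ((1, 0), 0) := ⟨(0, 0, 0, 1, 0), rfl, by
    rw [vab_zero, mul_one, uu_4]⟩
  have h3 := (mem_Vs_iff h1 h2).1 h
  exact absurd h3 (by decide)

/-- no nontrivial normal subgroups -/
theorem TRel.normal_eq_bot (h : TRel D t) (h1 : D.u1 ≠ 1) {A : Subgroup G}
    (hA : (Ext.ext h.F0 Vs_le_Tg (Phi (D := D) h1).range).IsNormal A) : A = ⊥ := by
  have hfin : Finite D.Tg := Nat.finite_of_card_ne_zero (by rw [card_Tg h1]; norm_num)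
  by_contra hne
  have h2 := h.N_le h1 (Cfsg.Agent.H759.IsNormal.stronglyClosed hA) hne
  have h3 := Ext.normal_le_E Vs_le_Tg (h.delta_not_le h1) hA
  exact u4_not_Vs h1 (h3 (h2 (D.U_le_N D.u4_mem)))

end Cfsg.Agent.H775.Th
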