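import Cfsg.Agent.H777.Count
import Cfsg.Agent.H405.PSqMin
import Cfsg.Prelude.Def_TwoFusion

/-!
# From a group realizing a system with a minimal strongly closed subgroup to a simple group (helper775)
-/

set_option autoImplicit false

namespace Cfsg.Agent.H775.MinReal

open Cfsg Cfsg.Agent.Lib.Cores Cfsg.Agent.H777.Real

universe u v

/-- closed under fusion -/
def Closed {P : Type u} {G : Type v} [Group P] [Group G] (ι : P →* G) (A : Subgroup P) : Prop :=
  ∀ a ∈ A, ∀ b : P, (∃ g : G, ι b = g * ι a * g⁻¹) → b ∈ A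

/-- normal in the fusion system -/
def Norm {P : Type u} {G : Type v} [Group P] [Group G] (ι : P →* G) (A : Subgroup P) : Prop :=
  ∀ (Q : Subgroup P) (φ : Q →* P), Fus ι φ → ∃ ψ : ↥(Q ⊔ A) →* P, Fus ι ψ ∧
    (∀ x : Q, ψ (Subgroup.inclusion le_sup_left x) = φ x) ∧ (A.subgroupOf (Q ⊔ A)).map ψ = A

variable {p : ℕ} [Fact p.Prime]

/-- strongly closed in one Sylow subgroup and contained in another one -/
theorem stronglyClosed_of {G : Type v} [Group G] [Finite G] {B : Subgroup G} (T : Sylow p G) (hB : B ≤ (T : Subgroup G))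
    {S : Sylow p G} (h : IsStronglyClosed B (S : Subgroup G)) : IsStronglyClosed B (T : Subgroup G) := by
  obtain ⟨x, hx⟩ := MulAction.exists_smul_eq G T S
  have hmem : ∀ y, y ∈ (S : Subgroup G) ↔ x⁻¹ * y * x ∈ (T : Subgroup G) := by
    intro y
    rw [← hx, Sylow.coe_subgroup_smul]
    constructor
    · rintro ⟨t, ht, hty⟩
      have h0 : x * t * x⁻¹ = y := hty
      have : x⁻¹ * y * x = t := by
        rw [← h0]
        group
      rw [this]
      exact ht
    · intro h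
      refine ⟨_, h, ?_⟩
      show x * (x⁻¹ * y * x) * x⁻¹ = y
      group
  -- `x` normalizes `B`
  have h1 : B.map (MulAut.conj x).toMonoidHom ≤ B := by
    rintro _ ⟨b, hb, rfl⟩
    refine h.2 b hb x ?_
    rw [hmem]
    have : x⁻¹ * (x * b * x⁻¹) * x = b := by group
    rw [this]
    exact hB hb
  have h2 : B.map (MulAut.conj x).toMonoidHom = B := by
    apply Subgroup.eq_of_le_of_card_ge h1
    rw [← Nat.card_congr (B.equivMapOfInjective (MulAut.conj x).toMonoidHom (MulAut.conj x).injective).toEquiv]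
  have h3 : ∀ y, x * y * x⁻¹ ∈ B → y ∈ B := by
    intro y hy
    rw [← h2] at hy
    obtain ⟨b, hb, hby⟩ := hy
    have h4 : x * b * x⁻¹ = x * y * x⁻¹ := hby
    rwa [mul_left_cancel (mul_right_cancel h4)] at hb
  refine ⟨hB, fun b hb g hg => ?_⟩
  apply h3
  have h4 := h.2 b hb (x * g) (by
    rw [hmem]
    have : x⁻¹ * (x * g * b * (x * g)⁻¹) * x = g * b * g⁻¹ := by group
    rw [this]
    exact hg)
  have h5 : x * g * b * (x * g)⁻¹ = x * (g * b * g⁻¹) * x⁻¹ := by group
  rwa [h5] at h4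

theorem pow_card_eq {G : Type v} [Group G] [Finite G] {P : Type u} [Group P] [Finite P] {n : ℕ} (κ : P →* G)
    (hκ : Function.Injective κ) (T : Sylow p G) (hT : (T : Subgroup G) = κ.range) (hc : Nat.card P = p ^ n) :
    (Nat.card G).factorization p = n := by
  have hp : p.Prime := Fact.out
  have h1 := T.card_eq_multiplicity
  have h2 : Nat.card T = p ^ n := by
    show Nat.card (T : Subgroup G) = _
    rw [hT, ← Nat.card_congr (MonoidHom.ofInjective hκ).toEquiv, hc]
  rw [h2] at h1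
  exact (Nat.pow_right_injective hp.two_le h1).symm

/-- a `p`-group embedded in a power of a group with Sylow `p`-subgroups of order `p` is abelian -/
theorem comm_of_pi {T : Type v} [Group T] [Finite T] {m : ℕ} (hT : (Nat.card T).factorization p = 1)
    {P : Type u} [Group P] (hP : IsPGroup p P) (f : P →* (Fin m → T)) (hf : Function.Injective f) (x y : P) :
    x * y = y * x := by
  have hp : p.Prime := Fact.out
  apply hf
  rw [map_mul, map_mul]
  funext i
  show f x i * f y i = f y i * f x i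
  set g : P →* T := (Pi.evalMonoidHom (fun _ : Fin m => T) i).comp f with hg
  have h1 : IsPGroup p g.range := hP.of_surjective g.rangeRestrict g.rangeRestrict_surjective
  obtain ⟨Q, hQ⟩ := h1.exists_le_sylow
  have h2 : Nat.card Q = p := by
    rw [Q.card_eq_multiplicity, hT, pow_one]
  have h3 : IsCyclic Q := isCyclic_of_prime_card h2
  have h4 : ∀ a b : Q, a * b = b * a := by
    intro a b
    have := h3.isMulCommutative
    exact this.is_comm.comm a b
  have hx : f x i ∈ (Q : Subgroup T) := hQ ⟨x, rfl⟩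
  have hy : f y i ∈ (Q : Subgroup T) := hQ ⟨y, rfl⟩
  exact congrArg Subtype.val (h4 ⟨_, hx⟩ ⟨_, hy⟩)

/-- **Reduction to a simple group.** -/
theorem exists_simple {P : Type u} [Group P] [Finite P] (hP : IsPGroup p P)
    {G : Type v} [Group G] [Finite G] (ι : P →* G) (hι : Function.Injective ι) (T : Sylow p G)
    (hT : (T : Subgroup G) = ι.range)
    (h5302 : ∀ (H : Type v) [Group H] [Finite H] (A : Subgroup H), IsPGroup p A → A ≠ ⊥ →
      (∃ S : Sylow p H, IsStronglyClosed A (S : Subgroup H)) →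
      (∀ B : Subgroup H, B ≤ A → B ≠ ⊥ → (∃ S : Sylow p H, IsStronglyClosed B (S : Subgroup H)) → B = A) →
      p ∣ A.relIndex (Subgroup.normalClosure (A : Set H)) → IsElementaryAbelian p A)
    (N : Subgroup P) (hN : Closed ι N) (hmin : ∀ A : Subgroup P, Closed ι A → A ≠ ⊥ → N ≤ A)
    (hnorm : ∀ A : Subgroup P, Norm ι A → A = ⊥)
    {q : ℕ} (hq : q.Prime) (hcN : Nat.card N = p ^ q) (hab : ¬ ∀ x ∈ N, ∀ y ∈ N, x * y = y * x) :
    ∃ (K : Type v) (_ : Group K) (_ : Finite K) (κ : N →* K), IsSimpleGroup K ∧ Function.Injective κ ∧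
      (∃ T' : Sylow p K, (T' : Subgroup K) = κ.range) := by
  have hp : p.Prime := Fact.out
  set N₀ := pPrimeCore p G with hN₀
  have hN₀c : (Nat.card N₀).Coprime p := pPrimeCore_coprime p
  set ι₁ : P →* G ⧸ N₀ := (QuotientGroup.mk' N₀).comp ι with hι₁
  have hrp : IsPGroup p ι.range := hP.of_surjective ι.rangeRestrict ι.rangeRestrict_surjective
  have hinj₁ : Function.Injective ι₁ := by
    rw [injective_iff_map_eq_one]
    intro x hx
    have h1 : ι x ∈ N₀ := (QuotientGroup.eq_one_iff _).1 hx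
    have h2 := H803.eq_one_of_mem_of_coprime hrp hN₀c (⟨x, rfl⟩ : ι x ∈ ι.range) h1
    exact (injective_iff_map_eq_one ι).1 hι x h2
  -- fusion in the quotient
  have hfus : ∀ (Q : Subgroup P) (φ : Q →* P), Fus ι₁ φ → Fus ι φ := by
    rintro Q φ ⟨g', hg⟩
    obtain ⟨g, rfl⟩ := QuotientGroup.mk_surjective g'
    obtain ⟨k, hk, hke⟩ := H803.exists_conj_of_congr (hP.to_subgroup Q)
      ((MulAut.conj g).toMonoidHom.comp (ι.comp Q.subtype)) (ι.comp φ) N₀ hN₀c (fun x => by
        rw [← QuotientGroup.eq]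
        exact (hg x).symm)
    refine ⟨k * g, fun x => ?_⟩
    have h1 := hke x
    have h2 : ι (φ x) = k * (g * ι x * g⁻¹) * k⁻¹ := h1
    rw [h2]
    group
  have hfus' : ∀ (Q : Subgroup P) (φ : Q →* P), Fus ι φ → Fus ι₁ φ := by
    rintro Q φ ⟨g, hg⟩
    refine ⟨QuotientGroup.mk' N₀ g, fun x => ?_⟩
    rw [hι₁, MonoidHom.comp_apply, MonoidHom.comp_apply, hg, map_mul, map_mul, map_inv]
  have hcard : Nat.card P = p ^ (Nat.card G).factorization p := by
    rw [Nat.card_congr (MonoidHom.ofInjective hι).toEquiv, ← hT]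
    exact T.card_eq_multiplicity
  have hfac : (Nat.card G).factorization p = (Nat.card (G ⧸ N₀)).factorization p := by
    rw [Subgroup.card_eq_card_quotient_mul_card_subgroup N₀,
      Nat.factorization_mul Nat.card_pos.ne' Nat.card_pos.ne']
    have h1 : (Nat.card N₀).factorization p = 0 :=
      Nat.factorization_eq_zero_of_not_dvd ((Nat.Prime.coprime_iff_not_dvd hp).1 hN₀c.symm)
    simp [h1]
  let T₁ : Sylow p (G ⧸ N₀) := Sylow.ofCard ι₁.range (by
    rw [← Nat.card_congr (MonoidHom.ofInjective hinj₁).toEquiv, hcard, hfac])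
  have hT₁ : (T₁ : Subgroup (G ⧸ N₀)) = ι₁.range := rfl
  have hcore : pPrimeCore p (G ⧸ N₀) = ⊥ := pPrimeCore_quotient_pPrimeCore p
  -- closed subgroups
  have hcl1 : ∀ A : Subgroup P, Closed ι₁ A → Closed ι A := by
    rintro A hA a ha b ⟨g, hg⟩
    refine hA a ha b ⟨QuotientGroup.mk' N₀ g, ?_⟩
    rw [hι₁, MonoidHom.comp_apply, MonoidHom.comp_apply, hg, map_mul, map_mul, map_inv]
  have hcl2 : ∀ A : Subgroup P, Closed ι A → Closed ι₁ A := by
    rintro A hA a ha b ⟨g, hg⟩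
    have h1 : ∀ x ∈ Subgroup.zpowers a, ∃ y, ι₁ y = g * ι₁ x * g⁻¹ := by
      intro x hx
      obtain ⟨k, rfl⟩ := Subgroup.mem_zpowers_iff.1 hx
      refine ⟨b ^ k, ?_⟩
      rw [map_zpow, hg, map_zpow, conj_zpow]
    obtain ⟨φ, hφ⟩ := exists_fus hinj₁ h1
    obtain ⟨g', hg'⟩ := hfus _ φ ⟨g, hφ⟩
    have h2 : φ ⟨a, Subgroup.mem_zpowers a⟩ = b := hinj₁ (by rw [hφ, hg])
    exact hA a ha b ⟨g', by rw [← h2, hg']⟩
  have hscl : ∀ A : Subgroup P, Closed ι A → IsStronglyClosed (A.map ι₁) (T₁ : Subgroup (G ⧸ N₀)) := by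
    intro A hA
    refine ⟨?_, ?_⟩
    · rintro _ ⟨a, -, rfl⟩
      exact ⟨a, rfl⟩
    · rintro _ ⟨a, ha, rfl⟩ g hg
      rw [hT₁] at hg
      obtain ⟨b, hb⟩ := hg
      exact ⟨b, hcl2 A hA a ha b ⟨g, hb⟩, hb⟩
  have hscl' : ∀ A : Subgroup P, IsStronglyClosed (A.map ι₁) (T₁ : Subgroup (G ⧸ N₀)) → Closed ι A := by
    intro A hA
    apply hcl1
    rintro a ha b ⟨g, hg⟩
    have h1 := hA.2 (ι₁ a) ⟨a, ha, rfl⟩ g (by rw [← hg, hT₁]; exact ⟨b, rfl⟩)
    rw [← hg] at h1
    obtain ⟨c, hc, hcb⟩ := h1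
    rwa [← hinj₁ hcb]
  -- the closed subgroup `N`
  have hNne : N ≠ ⊥ := by
    rintro rfl
    rw [Subgroup.card_bot] at hcN
    exact (Nat.one_lt_pow hq.ne_zero hp.one_lt).ne hcN
  have hcN1 : Nat.card (N.map ι₁) = p ^ q := by
    rw [← Nat.card_congr (N.equivMapOfInjective ι₁ hinj₁).toEquiv, hcN]
  have hN1ne : N.map ι₁ ≠ ⊥ := fun h => hNne ((Subgroup.map_eq_bot_iff_of_injective _ hinj₁).1 h)
  have hnd : ¬ p ∣ (N.map ι₁).relIndex (Subgroup.normalClosure ((N.map ι₁ : Subgroup (G ⧸ N₀)) : Set (G ⧸ N₀))) := by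
    intro hd
    have h1 := h5302 (G ⧸ N₀) (N.map ι₁) (IsPGroup.of_card hcN1) hN1ne ⟨T₁, hscl N hN⟩ ?_ hd
    · apply hab
      intro x hx y hy
      have := h1.1
      have h2 := this.is_comm.comm (⟨ι₁ x, x, hx, rfl⟩ : ↥(N.map ι₁)) ⟨ι₁ y, y, hy, rfl⟩
      have h3 : ι₁ x * ι₁ y = ι₁ y * ι₁ x := congrArg Subtype.val h2
      exact hinj₁ (by rw [map_mul, map_mul, h3])
    · rintro B hB hB1 ⟨S, hS⟩
      have h2 := stronglyClosed_of T₁ (hB.trans (hscl N hN).1) hS
      have h3 : (B.comap ι₁).map ι₁ = B := by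
        rw [Subgroup.map_comap_eq, inf_eq_right]
        exact h2.1
      have h4 : Closed ι (B.comap ι₁) := hscl' _ (by rw [h3]; exact h2)
      have h5 : N ≤ B.comap ι₁ := hmin _ h4 (by
        intro h
        apply hB1
        rw [← h3, h, Subgroup.map_bot])
      exact le_antisymm hB (by rw [← h3]; exact Subgroup.map_mono h5)
  set R := Subgroup.normalClosure ((N.map ι₁ : Subgroup (G ⧸ N₀)) : Set (G ⧸ N₀)) with hR
  have hNR : N.map ι₁ ≤ R := Subgroup.subset_normalClosure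
  have hRne : R ≠ ⊥ := by
    intro h
    rw [h] at hNR
    exact hN1ne (le_bot_iff.1 hNR)
  obtain ⟨M, hMR, hMn, hM1, hMmin⟩ := H405.PSq.exists_min R Subgroup.normalClosure_normal hRne
  obtain ⟨hpM, hcase⟩ := H405.PSq.minNormal_cases hp hcore M hM1 hMmin
  -- `M` contains `N`
  have hMcop : ¬ (Nat.card M).Coprime p := by
    intro h
    exact (hp.coprime_iff_not_dvd.1 h.symm) hpM
  have hMcl : Closed ι (M.comap ι₁) := by
    apply hcl1
    rintro a ha b ⟨g, hg⟩
    rw [Subgroup.mem_comap] at ha ⊢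
    rw [hg]
    exact hMn.conj_mem _ ha g
  have hMc1 : M.comap ι₁ ≠ ⊥ := by
    intro h
    obtain ⟨x, hxM, hxT, hx1⟩ := exists_mem_sylow T₁ hMcop
    rw [hT₁] at hxT
    obtain ⟨y, rfl⟩ := hxT
    have h2 : y ∈ M.comap ι₁ := hxM
    rw [h, Subgroup.mem_bot] at h2
    exact hx1 (by rw [h2, map_one])
  have hNM : N ≤ M.comap ι₁ := hmin _ hMcl hMc1
  have hRM : R = M := by
    apply le_antisymm _ hMR
    exact Subgroup.normalClosure_le_normal (by
      rintro _ ⟨x, hx, rfl⟩
      exact hNM hx)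
  -- `M` is not a `p`-group
  have hnp : ¬ IsPGroup p M := by
    intro hMp
    refine hMc1 (hnorm _ ?_)
    intro Q φ hφ
    obtain ⟨g, hg⟩ := hfus' _ _ hφ
    have hMT : M ≤ (T₁ : Subgroup (G ⧸ N₀)) := by
      obtain ⟨Q', hQ'⟩ := hMp.exists_le_sylow
      obtain ⟨x, hx⟩ := MulAction.exists_smul_eq (G ⧸ N₀) Q' T₁
      intro y hy
      rw [← hx, Sylow.coe_subgroup_smul]
      refine ⟨x⁻¹ * y * x, hQ' ?_, ?_⟩
      · have := hMn.conj_mem y hy x⁻¹
        rwa [inv_inv] at this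
      · show x * (x⁻¹ * y * x) * x⁻¹ = y
        group
    set A := M.comap ι₁ with hA
    have h1 : ∀ x ∈ Q ⊔ A, ∃ y, ι₁ y = g * ι₁ x * g⁻¹ := by
      have h2 : Q ⊔ A ≤ ((T₁ : Subgroup (G ⧸ N₀)).comap (MulAut.conj g).toMonoidHom).comap ι₁ := by
        rw [sup_le_iff]
        constructor
        · intro x hx
          show g * ι₁ x * g⁻¹ ∈ ι₁.range
          exact ⟨φ ⟨x, hx⟩, hg ⟨x, hx⟩⟩
        · intro x hx
          show g * ι₁ x * g⁻¹ ∈ (T₁ : Subgroup (G ⧸ N₀))
          exact hMT (hMn.conj_mem _ hx g)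
      intro x hx
      exact h2 hx
    obtain ⟨ψ, hψ⟩ := exists_fus hinj₁ h1
    refine ⟨ψ, hfus _ _ ⟨g, hψ⟩, fun x => hinj₁ (by rw [hψ, hg]; rfl), ?_⟩
    have hψi : Function.Injective ψ := by
      intro a b hab
      have h3 : g * ι₁ a * g⁻¹ = g * ι₁ b * g⁻¹ := by rw [← hψ, ← hψ, hab]
      exact Subtype.ext (hinj₁ (mul_left_cancel (mul_right_cancel h3)))
    apply Subgroup.eq_of_le_of_card_ge
    · rintro _ ⟨x, hx, rfl⟩
      show ι₁ (ψ x) ∈ M
      rw [hψ]
      exact hMn.conj_mem _ hx g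
    · rw [← Nat.card_congr ((A.subgroupOf (Q ⊔ A)).equivMapOfInjective ψ hψi).toEquiv,
        Nat.card_congr (Subgroup.subgroupOfEquivOfLe (le_sup_right : A ≤ Q ⊔ A)).toEquiv]
  -- the Sylow subgroup of `M`
  set κ : N →* M := (ι₁.comp N.subtype).codRestrict M (fun x => hNM x.2) with hκ
  have hκi : Function.Injective κ := fun a b hab => Subtype.ext (hinj₁ (congrArg Subtype.val hab))
  have hidx : ¬ p ∣ κ.range.index := by
    have h1 : κ.range = (N.map ι₁).subgroupOf M := by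
      ext x
      constructor
      · rintro ⟨y, rfl⟩
        exact ⟨y, y.2, rfl⟩
      · rintro ⟨y, hy, hyx⟩
        exact ⟨⟨y, hy⟩, Subtype.ext hyx⟩
    rw [h1]
    rw [hRM] at hnd
    exact hnd
  have hκp : IsPGroup p κ.range := (IsPGroup.of_card hcN).of_surjective κ.rangeRestrict κ.rangeRestrict_surjective
  let T' : Sylow p M := hκp.toSylow hidx
  have hT' : (T' : Subgroup M) = κ.range := rfl
  have hfM : (Nat.card M).factorization p = q := pow_card_eq κ hκi T' hT' hcN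
  rcases hcase with h | ⟨L, hLM, hLs, hLna, hpL, m, hm, ⟨e⟩⟩
  · exact absurd h hnp
  · have hfL : Finite L := inferInstance
    have h1 : m * (Nat.card L).factorization p = q := by
      rw [← hfM, H405.PSq.card_pow e, Nat.factorization_pow]
      rfl
    have h2 : (Nat.card L).factorization p ≠ 0 := by
      intro h
      rw [h, mul_zero] at h1
      exact hq.ne_zero h1.symm
    rcases (Nat.dvd_prime hq).1 ⟨_, h1.symm⟩ with hm1 | hmq
    · subst hm1
      refine ⟨M, inferInstance, inferInstance, κ, ?_, hκi, T', hT'⟩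
      let e' : M ≃* L := e.trans (MulEquiv.piUnique (fun _ : Fin 1 => L))
      exact e'.isSimpleGroup
    · exfalso
      have h3 : (Nat.card L).factorization p = 1 := by
        rw [hmq] at h1
        exact Nat.eq_of_mul_eq_mul_left hq.pos (by rw [h1, mul_one])
      apply hab
      intro x hx y hy
      have h4 := comm_of_pi h3 (IsPGroup.of_card hcN) (e.toMonoidHom.comp κ) (e.injective.comp hκi) ⟨x, hx⟩ ⟨y, hy⟩
      exact congrArg Subtype.val h4

end Cfsg.Agent.H775.MinReal
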