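import Cfsg.Agent.H775.Th.Model

/-!
# The action of `SL₂(9)` on `V5`, more facts (helper775)
-/

set_option autoImplicit false
set_option linter.unusedSimpArgs false

namespace Cfsg.Agent.H775.Th

open Cfsg.Agent.H777.Th3 Cfsg.Agent.ChevalleyStructure.NineField

/-- the action of `t` -/
def Tt (e : V5) : V5 :=
  (e.1 + 2 * e.2.1 + 2 * e.2.2.2.1 + e.2.2.2.2, 2 * e.1 + e.2.2.2.1, e.2.2.1 + 2 * e.2.2.2.2, e.2.2.2.2,
    e.2.2.2.1 + 2 * e.2.2.2.2)

theorem Tt_add (e f : V5) : Tt (e + f) = Tt e + Tt f := by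
  simp only [Tt, Prod.fst_add, Prod.snd_add, Prod.mk_add_mk, Prod.mk.injEq]
  refine ⟨?_, ?_, ?_, ?_, ?_⟩ <;> first | ring | trivial

theorem Tt_eq : ∀ e : V5, Tt e = thi ((⟨2, 1⟩ : F9) * (th e).1, (⟨1, 1⟩ : F9) * (th e).2.1, (th e).2.2) := by
  decide +kernel

theorem Tt_eq_act (e : V5) : Tt e = act dl e := by
  rw [Tt_eq]
  unfold act mact
  simp [dl]

theorem mvU_eq (f e : V5) : mvU f e = act (up (mk3 f.2.2.2.1 (-f.2.2.2.2))) e := by
  have h : ∀ a b : ZMod 3, ∀ e : V5, e + (T (-e.2.2.2.1) (-e.2.2.2.2) 0 0 (0, 0, 0, a, b) - (0, 0, 0, a, b)) =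
      thi ((th e).1 + mk3 a (-b) * (th e).2.1, (th e).2.1, (th e).2.2) := by
    decide +kernel
  have h2 : T (-e.2.2.2.1) (-e.2.2.2.2) 0 0 f - f =
      T (-e.2.2.2.1) (-e.2.2.2.2) 0 0 (0, 0, 0, f.2.2.2.1, f.2.2.2.2) - (0, 0, 0, f.2.2.2.1, f.2.2.2.2) := by
    have h3 : f = (f.1, f.2.1, f.2.2.1, 0, 0) + (0, 0, 0, f.2.2.2.1, f.2.2.2.2) := by
      obtain ⟨a, b, c, d, e⟩ := f
      simp
    have h4 : T (-e.2.2.2.1) (-e.2.2.2.2) 0 0 (f.1, f.2.1, f.2.2.1, 0, 0) = (f.1, f.2.1, f.2.2.1, 0, 0) := by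
      simp [T]
    conv_lhs => rw [h3, T_add, h4]
    abel
  unfold mvU
  rw [h2, h]
  unfold act mact
  simp [up]

/-- transitivity -/
theorem exists_mact {x x' y' : F9} (hx : x ≠ 0) (h : ¬ (x' = 0 ∧ y' = 0)) :
    ∃ M : SL, mact M (x, 0, 0) = (x', y', 0) := by
  by_cases hx' : x' = 0
  · subst hx'
    have hy : y' ≠ 0 := fun hy => h ⟨rfl, hy⟩
    refine ⟨⟨!![0, -(x * y'⁻¹); y' * x⁻¹, 0], ?_⟩, ?_⟩
    · rw [Matrix.det_fin_two]
      show (0 : F9) * 0 - (-(x * y'⁻¹)) * (y' * x⁻¹) = 1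
      field_simp
      ring
    · unfold mact
      simp [hx]
  · refine ⟨⟨!![x' * x⁻¹, 0; y' * x⁻¹, x * x'⁻¹], ?_⟩, ?_⟩
    · rw [Matrix.det_fin_two]
      show (x' * x⁻¹) * (x * x'⁻¹) - (0 : F9) * (y' * x⁻¹) = 1
      field_simp
      ring
    · unfold mact
      simp [hx]

theorem conj_up (M : SL) (β : F9) : (M * up β * M⁻¹).1 1 0 = -(M.1 1 0 ^ 2 * β) := by
  have h : (M⁻¹).1 = !![M.1 1 1, -M.1 0 1; -M.1 1 0, M.1 0 0] := by
    show Matrix.adjugate M.1 = _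
    rw [Matrix.adjugate_fin_two]
  show (M.1 * !![1, β; 0, 1] * (M⁻¹).1) 1 0 = _
  rw [h]
  simp [Matrix.mul_apply, Fin.sum_univ_two]
  ring

theorem card_SL_dvd : Nat.card SL ∣ 5760 := by
  have h1 : Nat.card (Matrix.GeneralLinearGroup (Fin 2) F9) = 5760 := by
    rw [Matrix.card_GL_field, F9.card_F9, Fin.prod_univ_two]
    norm_num
  rw [← h1]
  exact Subgroup.card_dvd_of_injective (Matrix.SpecialLinearGroup.toGL (n := Fin 2) (R := F9))
    Matrix.SpecialLinearGroup.toGL_injective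

/-- the entries of an upper triangular element of 3-power order -/
theorem up_of_pow {M : SL} (h : M.1 1 0 = 0) {k : ℕ} (hk : M ^ 3 ^ k = 1) : ∃ β, M = up β := by
  obtain ⟨β, n, rfl⟩ := exists_upper h
  refine ⟨β, ?_⟩
  have h1 : ∀ m : ℕ, ((up β * dl ^ n) ^ m).1 1 0 = 0 ∧ ((up β * dl ^ n) ^ m).1 1 1 = (⟨1, 1⟩ : F9) ^ (n * m) := by
    intro m
    induction m with
    | zero => simp
    | succ m ih =>
      have e : ((up β * dl ^ n) ^ (m + 1)).1 = ((up β * dl ^ n) ^ m).1 * (!![1, β; 0, 1] * (dl ^ n).1) := by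
        rw [pow_succ]
        rfl
      rw [e, dl_pow]
      constructor
      · rw [Matrix.mul_apply, Fin.sum_univ_two, ih.1, ih.2]
        simp [Matrix.mul_apply, Fin.sum_univ_two]
      · rw [Matrix.mul_apply, Fin.sum_univ_two, ih.1, ih.2]
        simp [Matrix.mul_apply, Fin.sum_univ_two]
        rw [mul_add, pow_add, mul_one]
  have h2 := (h1 (3 ^ k)).2
  rw [hk] at h2
  have h3 : (⟨1, 1⟩ : F9) ^ (n * 3 ^ k) = 1 := h2.symm
  have h4 : orderOf (⟨1, 1⟩ : F9) = 8 := by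
    refine orderOf_eq_of_pow_and_pow_div_prime (by norm_num) (by decide +kernel) ?_
    intro p hp hp2
    have : p = 2 := by
      have h5 : p ∣ 2 ^ 3 := by norm_num; exact hp2
      exact (Nat.prime_dvd_prime_iff_eq hp Nat.prime_two).1 (hp.dvd_of_dvd_pow h5)
    subst this
    decide +kernel
  have h5 : 8 ∣ n := by
    have h6 := orderOf_dvd_of_pow_eq_one h3
    rw [h4] at h6
    exact (Nat.Coprime.pow_right k (by norm_num : Nat.Coprime 8 3)).dvd_of_dvd_mul_right h6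
  obtain ⟨j, rfl⟩ := h5
  have h7 : dl ^ 8 = 1 := by
    apply Subtype.ext
    rw [dl_pow]
    have e1 : (⟨2, 1⟩ : F9) ^ 8 = 1 := by decide +kernel
    have e2 : (⟨1, 1⟩ : F9) ^ 8 = 1 := by decide +kernel
    rw [e1, e2]
    refine Matrix.ext fun i j => ?_
    fin_cases i <;> fin_cases j <;> simp
  rw [pow_mul, h7, one_pow, mul_one]

end Cfsg.Agent.H775.Th
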