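import Cfsg.Agent.H775.Th.Closed
import Cfsg.Agent.H775.Th.MinReal
import Cfsg.Agent.H775.Elim7
import Cfsg.Agent.H759.FusTransportD

/-!
# The system over `Tg` is not realizable (helper775)
-/

set_option autoImplicit false
set_option linter.unusedSimpArgs false

namespace Cfsg.Agent.H775.Th

open Cfsg Cfsg.FusionSystem Cfsg.Agent.H777.Th3 Dat Cfsg.Agent.ChevalleyStructure.NineField Cfsg.Agent.H802
open Cfsg.Agent.H775 Cfsg.Agent.H759 Cfsg.Agent.H777.Real Cfsg.Agent.H777.Elim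

universe u v w

variable {G₀ : Type w} [Group G₀] {D : Dat G₀} {t : G₀}

theorem cube_T (a b : ZMod 3) (e : V5) : e + T (-a) (-b) 0 0 e + T (-a) (-b) 0 0 (T (-a) (-b) 0 0 e) = 0 := by
  rw [T_T]
  have h3 : (3 : ZMod 3) = 0 := rfl
  have h3' : ∀ x : ZMod 3, x + x + x = 0 := by decide
  obtain ⟨e1, e2, e3, e4, e5⟩ := e
  simp only [T, Prod.mk_add_mk]
  refine Prod.ext ?_ (Prod.ext ?_ (Prod.ext ?_ (Prod.ext ?_ ?_)))
  · show e1 + (e1 + _) + (e1 + _) = (0 : ZMod 3)
    have := h3' e1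
    have h4 := h3' (2 * -a * (e4 + e5) + -b * e5)
    linear_combination this + h4
  · show e2 + (e2 + _) + (e2 + _) = (0 : ZMod 3)
    have := h3' e2
    have h4 := h3' (2 * -a * e5 + -b * (e4 + 2 * e5))
    linear_combination this + h4
  · exact h3' e3
  · exact h3' e4
  · exact h3' e5

/-- `N` has exponent 3 -/
theorem N_cube {x : G₀} (hx : x ∈ D.N) : x ^ 3 = 1 := by
  obtain ⟨f, a, b, rfl⟩ := (D.mem_N).1 hx
  have h3 : D.vab (a, b) = D.v1 ^ a.val * D.v2 ^ b.val := rfl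
  rw [← h3]
  set m : F2 := (a, b) with hm
  have h4 : D.vab m * D.uu f = D.uu (T (-a) (-b) 0 0 f) * D.vab m := D.vab_uu m f
  have h5 : D.vab m * D.uu (T (-a) (-b) 0 0 f) = D.uu (T (-a) (-b) 0 0 (T (-a) (-b) 0 0 f)) * D.vab m := D.vab_uu m _
  have h6 : D.vab m * D.vab m * D.vab m = 1 := by
    rw [← vab_add, ← vab_add]
    have : m + m + m = 0 := by
      have h3' : ∀ x : ZMod 3, x + x + x = 0 := by decide
      exact Prod.ext (h3' _) (h3' _)
    rw [this, vab_zero]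
  have h7 : D.vab m * D.vab m * D.uu f = D.uu (T (-a) (-b) 0 0 (T (-a) (-b) 0 0 f)) * (D.vab m * D.vab m) := by
    rw [mul_assoc, h4, ← mul_assoc, h5, mul_assoc]
  calc (D.uu f * D.vab m) ^ 3 = D.uu f * (D.vab m * D.uu f) * (D.vab m * D.uu f) * D.vab m := by
        rw [pow_succ, pow_succ, pow_one]; group
    _ = D.uu f * D.uu (T (-a) (-b) 0 0 f) * (D.vab m * D.uu (T (-a) (-b) 0 0 f)) * (D.vab m * D.vab m) := by
        rw [h4]; group
    _ = D.uu f * D.uu (T (-a) (-b) 0 0 f) * D.uu (T (-a) (-b) 0 0 (T (-a) (-b) 0 0 f)) *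
        (D.vab m * D.vab m * D.vab m) := by
        rw [h5]; group
    _ = 1 := by
        rw [h6, mul_one, ← uu_add, ← uu_add, cube_T, uu_zero]

/-- **the system is not realizable**, given S5302 and the elimination of the simple groups -/
theorem TRel.not_fus (h : TRel D t) (h1 : D.u1 ≠ 1) {C : Type u} [Group C] [Finite C] {k : C →* G₀}
    (hk : Function.Injective k) (hkr : k.range = D.Tg) {Y : FusionSystem (⊤ : Subgroup C)}
    (hY : IsPush hk Y (Ext.ext h.F0 Vs_le_Tg (Phi (D := D) h1).range))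
    {G : Type v} [Group G] [Finite G] (ι : C →* G) (hι : Function.Injective ι) (T : Sylow 3 G)
    (hT : (T : Subgroup G) = ι.range) (hreal : ∀ (Q : Subgroup C) (φ : Q →* C), φ ∈ Y.Hom Q ↔ Fus ι φ)
    (h5302 : ∀ (H : Type v) [Group H] [Finite H] (A : Subgroup H), IsPGroup 3 A → A ≠ ⊥ →
      (∃ S : Sylow 3 H, IsStronglyClosed A (S : Subgroup H)) →
      (∀ B : Subgroup H, B ≤ A → B ≠ ⊥ → (∃ S : Sylow 3 H, IsStronglyClosed B (S : Subgroup H)) → B = A) →
      3 ∣ A.relIndex (Subgroup.normalClosure (A : Set H)) → IsElementaryAbelian 3 A)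
    (helim : ∀ (K : Type v) [Group K] [Finite K] [IsSimpleGroup K], ¬ IsMulCommutative K → Vn 7 K →
      Elim7.Big7 K) : False := by
  have : Fact (Nat.Prime 3) := ⟨Nat.prime_three⟩
  have hmemk : ∀ x, k x ∈ D.Tg := fun x => by rw [← hkr]; exact ⟨x, rfl⟩
  have hcC : Nat.card C = 3 ^ 9 := by
    rw [Nat.card_congr (MonoidHom.ofInjective hk).toEquiv, hkr, card_Tg h1]
  have hP : IsPGroup 3 C := IsPGroup.of_card hcC
  -- closed subgroups
  have hcl : ∀ A : Subgroup C, MinReal.Closed ι A →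
      (Ext.ext h.F0 Vs_le_Tg (Phi (D := D) h1).range).StronglyClosed (A.map k) := by
    intro A hA
    rw [hY.stronglyClosed_iff]
    refine ⟨le_top, fun R hR φ hφ x => ?_⟩
    obtain ⟨g, hg⟩ := (hreal R φ).1 hφ
    exact hA _ (hR x.2) _ ⟨g, hg x⟩
  obtain ⟨N, hN⟩ := exists_eq_map (f := k) (P' := D.N) (by rw [hkr]; exact D.N_le_Tg)
  have hNcl : MinReal.Closed ι N := by
    rintro a ha b ⟨g, hg⟩
    have h2 : ∀ x ∈ Subgroup.zpowers a, ∃ y, ι y = g * ι x * g⁻¹ := by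
      intro x hx
      obtain ⟨j, rfl⟩ := Subgroup.mem_zpowers_iff.1 hx
      refine ⟨b ^ j, ?_⟩
      rw [map_zpow, hg, map_zpow, conj_zpow]
    obtain ⟨φ, hφ⟩ := exists_fus hι h2
    have h3 : φ ⟨a, Subgroup.mem_zpowers a⟩ = b := hι (by rw [hφ, hg])
    have h4 : φ ∈ Y.Hom (Subgroup.zpowers a) := (hreal _ _).2 ⟨g, hφ⟩
    have h5 := (hY.hom _ φ).2 h4
    have h6 := h.N_closed h1 h5 (eqv hk _ ⟨a, Subgroup.mem_zpowers a⟩) (by
      show k a ∈ D.N
      rw [hN]
      exact ⟨a, ha, rfl⟩)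
    rw [cb_eqv, h3, hN] at h6
    exact (map_mem_map hk b).1 h6
  have hmin : ∀ A : Subgroup C, MinReal.Closed ι A → A ≠ ⊥ → N ≤ A := by
    intro A hA hA1
    have h2 := h.N_le h1 (hcl A hA) (fun h => hA1 ((Subgroup.map_eq_bot_iff_of_injective _ hk).1 h))
    rw [hN] at h2
    exact (map_le_map hk).1 h2
  have hnorm : ∀ A : Subgroup C, MinReal.Norm ι A → A = ⊥ := by
    intro A hA
    have h2 : Y.IsNormal A := by
      refine ⟨le_top, fun Q φ hφ => ?_⟩
      obtain ⟨ψ, hψ, h3, h4⟩ := hA Q φ ((hreal _ _).1 hφ)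
      exact ⟨ψ, (hreal _ _).2 hψ, h3, h4⟩
    have h3 := h.normal_eq_bot h1 (hY.isNormal_iff.2 h2)
    exact (Subgroup.map_eq_bot_iff_of_injective _ hk).1 h3
  have hcN : Nat.card N = 3 ^ 7 := by
    rw [Nat.card_congr (N.equivMapOfInjective k hk).toEquiv, ← hN, card_N h1]
  have hab : ¬ ∀ x ∈ N, ∀ y ∈ N, x * y = y * x := by
    intro hab
    have h2 : D.u4 ∈ N.map k := by rw [← hN]; exact D.U_le_N D.u4_mem
    have h3 : D.v1 ∈ N.map k := by rw [← hN]; exact D.v1_N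
    obtain ⟨x, hx, hx'⟩ := h2
    obtain ⟨y, hy, hy'⟩ := h3
    have h4 : D.u4 * D.v1 = D.v1 * D.u4 := by
      rw [← hx', ← hy', ← map_mul, hab x hx y hy, map_mul]
    exact u4_not_Vs h1 (mem_Vs_of_comm h1 v1_Vs (v1_not h1) (D.U_le_N D.u4_mem) h4.symm)
  obtain ⟨K, _, _, κ, hs, hκ, T', hT'⟩ := MinReal.exists_simple hP ι hι T hT h5302 N hNcl hmin hnorm
    (by norm_num : Nat.Prime 7) hcN hab
  -- the simple group `K`
  have hKna : ¬ IsMulCommutative K := by
    intro hKc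
    apply hab
    intro x hx y hy
    have h2 : (⟨x, hx⟩ : N) * ⟨y, hy⟩ = ⟨y, hy⟩ * ⟨x, hx⟩ := hκ (by
      rw [map_mul, map_mul]
      exact hKc.is_comm.comm _ _)
    exact congrArg Subtype.val h2
  have hV : Vn 7 K := by
    have h2 : (Nat.card K).factorization 3 = 7 := MinReal.pow_card_eq κ hκ T' hT' hcN
    constructor
    · rw [Nat.prime_three.pow_dvd_iff_le_factorization Nat.card_pos.ne', h2]
    · rw [Nat.prime_three.pow_dvd_iff_le_factorization Nat.card_pos.ne', h2]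
      norm_num
  have hmemN : ∀ y : N, k y ∈ D.N := by
    intro y
    rw [hN]
    exact ⟨y, y.2, rfl⟩
  -- conjugation of a 3-subgroup into the image of `κ`
  have hconj : ∀ A : Subgroup K, IsPGroup 3 A → ∃ g : K, ∀ a ∈ A, ∃ y : N, κ y = g * a * g⁻¹ := by
    intro A hA
    obtain ⟨Q, hQ⟩ := hA.exists_le_sylow
    obtain ⟨g, hg⟩ := MulAction.exists_smul_eq K Q T'
    refine ⟨g, fun a ha => ?_⟩
    have h2 : g * a * g⁻¹ ∈ (T' : Subgroup K) := by
      rw [← hg, Sylow.coe_subgroup_smul]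
      exact ⟨a, hQ ha, rfl⟩
    rw [hT'] at h2
    obtain ⟨y, hy⟩ := h2
    exact ⟨y, hy⟩
  rcases helim K hKna hV with ⟨A, hA, hAab, hc⟩ | ⟨x, hx⟩
  · obtain ⟨g, hg⟩ := hconj A hA
    set B : Subgroup N := (cj A g⁻¹).comap κ with hBdef
    have hmB : ∀ y, y ∈ B ↔ g⁻¹ * κ y * g ∈ A := by
      intro y
      show g⁻¹ * κ y * g⁻¹⁻¹ ∈ A ↔ _
      rw [inv_inv]
    set kN : N →* G₀ := k.comp N.subtype with hkN
    have hkNi : Function.Injective kN := hk.comp N.subtype_injective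
    have hBab : ∀ x ∈ B.map kN, ∀ y ∈ B.map kN, x * y = y * x := by
      rintro _ ⟨x, hx, rfl⟩ _ ⟨y, hy, rfl⟩
      have h2 := hAab _ ((hmB x).1 hx) _ ((hmB y).1 hy)
      have h3 : κ x * κ y = κ y * κ x := by
        have e1 : g⁻¹ * κ x * g * (g⁻¹ * κ y * g) = g⁻¹ * (κ x * κ y) * g := by group
        have e2 : g⁻¹ * κ y * g * (g⁻¹ * κ x * g) = g⁻¹ * (κ y * κ x) * g := by group
        rw [e1, e2] at h2
        exact mul_left_cancel (mul_right_cancel h2)
      have h4 : x * y = y * x := hκ (by rw [map_mul, map_mul, h3])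
      rw [← map_mul, ← map_mul, h4]
    have hle := abelian_Tg h1 (A := B.map kN) (by
      rintro _ ⟨x, -, rfl⟩
      exact hmemk _) hBab
    rw [← Nat.card_congr (B.equivMapOfInjective kN hkNi).toEquiv] at hle
    have h2 : Nat.card A ≤ Nat.card B := by
      choose y hy using hg
      refine Nat.card_le_card_of_injective (fun a : A => (⟨y a a.2, (hmB _).2 (by
        rw [hy]
        have : g⁻¹ * (g * (a : K) * g⁻¹) * g = a := by group
        rw [this]
        exact a.2)⟩ : B)) ?_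
      intro a a' h
      have h2 : y a a.2 = y a' a'.2 := congrArg Subtype.val h
      have h3 : g * (a : K) * g⁻¹ = g * (a' : K) * g⁻¹ := by rw [← hy a a.2, ← hy a' a'.2, h2]
      exact Subtype.ext (mul_left_cancel (mul_right_cancel h3))
    have h3 := hc.trans (h2.trans hle)
    norm_num at h3
  · have hA : IsPGroup 3 (Subgroup.zpowers x) := by
      apply IsPGroup.of_card (n := 2)
      rw [Nat.card_zpowers, hx]
      norm_num
    obtain ⟨g, hg⟩ := hconj _ hA
    obtain ⟨y, hy⟩ := hg x (Subgroup.mem_zpowers x)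
    have h2 : y ^ 3 = 1 := by
      have h3 : k (y ^ 3 : N) = 1 := by
        rw [Subgroup.coe_pow, map_pow]
        exact N_cube (hmemN y)
      exact Subtype.ext (hk (by rw [h3]; exact (map_one k).symm))
    have h3 : (g * x * g⁻¹) ^ 3 = 1 := by rw [← hy, ← map_pow, h2, map_one]
    rw [conj_pow] at h3
    have h4 : x ^ 3 = 1 := by
      calc x ^ 3 = g⁻¹ * (g * x ^ 3 * g⁻¹) * g := by group
        _ = 1 := by rw [h3]; group
    have h5 := orderOf_dvd_of_pow_eq_one h4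
    rw [hx] at h5
    norm_num at h5

end Cfsg.Agent.H775.Th
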