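import Cfsg.Agent.H775.Th.Phi

/-!
# The saturated fusion system over `Tg` (helper775)
-/

set_option autoImplicit false
set_option linter.unusedSimpArgs false

namespace Cfsg.Agent.H775.Th

open Cfsg Cfsg.FusionSystem Cfsg.Agent.H777.Th3 Dat Cfsg.Agent.ChevalleyStructure.NineField Cfsg.Agent.H802
open Cfsg.Agent.H775

variable {G : Type*} [Group G] {D : Dat G} {t : G}

/-- the fusion system of `B` -/
def TRel.F0 (h : TRel D t) : FusionSystem D.Tg := fusionSystemOfSubgroup h.B D.Tg h.Tg_le_B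

theorem Vs_le_Tg : D.Vs ≤ D.Tg := Vs_le_N.trans D.N_le_Tg

/-- the automorphisms of `V` in `F0` -/
theorem TRel.mem_aut0 (h : TRel D t) {α : MulAut D.Vs} :
    α ∈ h.F0.autGroup D.Vs ↔ ∃ b ∈ h.B, ∀ x : D.Vs, ((α x : D.Vs) : G) = b * x * b⁻¹ := by
  unfold TRel.F0
  rw [fs_autGroup h.Tg_le_B Vs_le_Tg, mem_autInducedBy_iff]

theorem TRel.mem_aut0_iff (h : TRel D t) (h1 : D.u1 ≠ 1) {α : MulAut D.Vs} :
    α ∈ h.F0.autGroup D.Vs ↔ ∃ M : SL, M.1 1 0 = 0 ∧ α = Phi h1 M := by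
  rw [h.mem_aut0]
  constructor
  · rintro ⟨b, hb, hα⟩
    obtain ⟨M, hM, he⟩ := h.norm_act h1 hb (fun x hx => by
      rw [← hα ⟨x, hx⟩]
      exact (α _).2)
    exact ⟨M, hM, (Phi_eq_iff h1 hα).2 he⟩
  · rintro ⟨M, hM, rfl⟩
    obtain ⟨b, hb, he⟩ := h.exists_norm hM
    refine ⟨b, hb, ?_⟩
    rintro ⟨x, hx⟩
    obtain ⟨e, rfl⟩ := (D.mem_Vs).1 hx
    rw [Phi_apply]
    exact (he e).symm

theorem TRel.aut0_le (h : TRel D t) (h1 : D.u1 ≠ 1) : h.F0.autGroup D.Vs ≤ (Phi (D := D) h1).range := by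
  intro α hα
  obtain ⟨M, -, rfl⟩ := (h.mem_aut0_iff h1).1 hα
  exact ⟨M, rfl⟩

/-- the unipotent matrices -/
def upH : Multiplicative F9 →* SL where
  toFun β := up β.toAdd
  map_one' := up_zero
  map_mul' _ _ := (up_mul _ _).symm

theorem upH_injective : Function.Injective upH := by
  intro x y hxy
  have h : (up x.toAdd).1 0 1 = (up y.toAdd).1 0 1 := congrArg (fun M : SL => M.1 0 1) hxy
  exact h

theorem TRel.nine_dvd (h : TRel D t) (h1 : D.u1 ≠ 1) : 9 ∣ Nat.card (h.F0.autGroup D.Vs) := by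
  have h2 : Nat.card (upH.range.map (Phi (D := D) h1)) = 9 := by
    rw [← Nat.card_congr (upH.range.equivMapOfInjective _ (Phi_injective h1)).toEquiv,
      ← Nat.card_congr (MonoidHom.ofInjective upH_injective).toEquiv]
    show Nat.card F9 = 9
    rw [Nat.card_eq_fintype_card, F9.card_F9]
  have h3 : upH.range.map (Phi (D := D) h1) ≤ h.F0.autGroup D.Vs := by
    rintro _ ⟨_, ⟨β, rfl⟩, rfl⟩
    exact (h.mem_aut0_iff h1).2 ⟨_, rfl, rfl⟩
  have h4 := Subgroup.card_dvd_of_le h3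
  rwa [h2] at h4

theorem relIndex_mul_card' {H K : Subgroup G} (hHK : H ≤ K) : H.relIndex K * Nat.card H = Nat.card K := by
  have h3 := Subgroup.card_mul_index (H.subgroupOf K)
  rw [Nat.card_congr (Subgroup.subgroupOfEquivOfLe hHK).toEquiv] at h3
  rw [mul_comm]
  exact h3

theorem TRel.not_dvd (h : TRel D t) (h1 : D.u1 ≠ 1) :
    ¬ 3 ∣ (h.F0.autGroup D.Vs).relIndex (Phi (D := D) h1).range := by
  intro h3
  have h4 := relIndex_mul_card' (h.aut0_le h1)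
  have h5 : Nat.card (Phi (D := D) h1).range = Nat.card SL :=
    (Nat.card_congr (MonoidHom.ofInjective (Phi_injective h1)).toEquiv).symm
  have h6 : 3 * 9 ∣ 5760 := by
    have h7 := Nat.mul_dvd_mul h3 (h.nine_dvd h1)
    rw [h4, h5] at h7
    exact h7.trans card_SL_dvd
  norm_num at h6

theorem TRel.strong (h : TRel D t) (h1 : D.u1 ≠ 1) :
    ∀ δ ∈ (Phi (D := D) h1).range, δ ∉ h.F0.autGroup D.Vs → ∀ α ∈ h.F0.autGroup D.Vs,
      δ * α * δ⁻¹ ∈ h.F0.autGroup D.Vs → (∃ k : ℕ, α ^ 3 ^ k = 1) → α = 1 := by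
  rintro _ ⟨M, rfl⟩ hM α hα hc ⟨k, hk⟩
  obtain ⟨A, hA, rfl⟩ := (h.mem_aut0_iff h1).1 hα
  have hAk : A ^ 3 ^ k = 1 := Phi_injective h1 (by rw [map_pow, hk, map_one])
  obtain ⟨β, rfl⟩ := up_of_pow hA hAk
  rw [← map_mul, ← map_inv, ← map_mul] at hc
  obtain ⟨C, hC, hCe⟩ := (h.mem_aut0_iff h1).1 hc
  have h2 := Phi_injective h1 hCe
  rw [← h2, conj_up, neg_eq_zero, mul_eq_zero] at hC
  rcases hC with hC | hC
  · exact absurd ((h.mem_aut0_iff h1).2 ⟨M, pow_eq_zero_iff (two_ne_zero) |>.1 hC, rfl⟩) hM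
  · rw [hC, up_zero, map_one]

theorem Vs_centric (h1 : D.u1 ≠ 1) {x : G} (hx : x ∈ D.Tg) (hc : ∀ y ∈ D.Vs, y * x = x * y) : x ∈ D.Vs := by
  have hN : x ∈ D.N := mem_N_of_norm h1 (D.Tg_le_Sg hx) (fun y hy => by
    rw [mul_assoc, hc y hy]
    simpa using hy)
  exact mem_Vs_of_comm h1 v1_Vs (v1_not h1) hN (hc _ v1_Vs)

/-- the system -/
noncomputable def TRel.F [Finite G] (h : TRel D t) (h1 : D.u1 ≠ 1) : FusionSystem D.Tg :=
  Ext.ext h.F0 Vs_le_Tg (Phi (D := D) h1).range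

theorem TRel.F_sat [Finite G] (h : TRel D t) (h1 : D.u1 ≠ 1) : (h.F h1).IsSaturated 3 := by
  have : Fact (Nat.Prime 3) := ⟨Nat.prime_three⟩
  have hn : ∀ b ∈ h.B, ∀ x ∈ D.Tg, b * x * b⁻¹ ∈ D.Tg := fun b hb x hx => h.B_conj hb hx
  exact Ext.ext_isSaturated (IsPGroup.of_card (card_Tg h1)) (fs_isSaturated (h.sylIn h1))
    (Borel.fullyNormalized h.Tg_le_B hn Vs_le_Tg)
    (Borel.centric h.Tg_le_B hn Vs_le_Tg (fun x hx hc => Vs_centric h1 hx hc))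
    (fun P hP => Borel.not_centric Vs_le_Tg (fun x hx y hy => Vs_comm hx hy) hP)
    (h.aut0_le h1) (h.not_dvd h1) (h.strong h1)

end Cfsg.Agent.H775.Th
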