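import Cfsg.Agent.H775.Th.ModelB
import Cfsg.Agent.H802.FusGroup

/-!
# The group `B = Tg ⟨t⟩` (helper775)
-/

set_option autoImplicit false
set_option linter.unusedSimpArgs false

namespace Cfsg.Agent.H775.Th

open Cfsg.Agent.H777.Th3 Dat Cfsg.Agent.ChevalleyStructure.NineField Cfsg.Agent.H802

/-- the relations of `t` -/
structure TRel {G : Type*} [Group G] (D : Dat G) (t : G) : Prop where
  pow8 : t ^ 8 = 1
  u1 : D.u1 * t = t * D.u1 * D.u2 ^ 2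
  u2 : D.u2 * t = t * D.u1 ^ 2
  u3 : D.u3 * t = t * D.u3
  u4 : D.u4 * t = t * D.u3 ^ 2 * D.u5 ^ 2
  u5 : D.u5 * t = t * D.u3 * D.u4
  v1 : D.v1 * t = t * D.u1 ^ 2 * D.u2 * D.v2
  v2 : D.v2 * t = t * D.u1 * D.u3 ^ 2 * D.v1 * D.v2 ^ 2
  r1 : D.r1 * t = t * D.r2 ^ 2 * D.r1 ^ 2 * D.v2 * D.v1 ^ 2 * D.u1 ^ 2 * D.u2 ^ 2 * D.u4 * D.u5
  r2 : D.r2 * t = t * D.r2 ^ 2 * D.r1 * D.v2 ^ 2 * D.v1 ^ 2 * D.u1 ^ 2 * D.u3 ^ 2 * D.u5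

variable {G : Type*} [Group G] {D : Dat G} {t : G}

theorem vv_eq (e : V5) : D.vv e = D.u1 ^ e.1.val * D.u2 ^ e.2.1.val * D.u3 ^ e.2.2.1.val *
    (D.v1 ^ e.2.2.2.1.val * D.v2 ^ e.2.2.2.2.val) := by
  unfold vv vab uu
  simp

theorem TRel.actV (h : TRel D t) : D.ActV t Tt := by
  refine actV_of Tt_add ?_
  have k1 : t⁻¹ * D.u1 * t = D.u1 * D.u2 ^ 2 := conj_eq_of (by rw [h.u1, mul_assoc])
  have k2 : t⁻¹ * D.u2 * t = D.u1 ^ 2 := conj_eq_of h.u2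
  have k3 : t⁻¹ * D.u3 * t = D.u3 := conj_eq_of h.u3
  have k4 : t⁻¹ * D.v1 * t = D.u1 ^ 2 * D.u2 * D.v2 := conj_eq_of (by rw [h.v1]; simp only [mul_assoc])
  have k5 : t⁻¹ * D.v2 * t = D.u1 * D.u3 ^ 2 * (D.v1 * D.v2 ^ 2) := conj_eq_of (by rw [h.v2]; simp only [mul_assoc])
  intro e he
  simp only [List.mem_cons, List.not_mem_nil, or_false] at he
  rcases he with rfl | rfl | rfl | rfl | rfl
  · have e1 : D.vv (1, 0, 0, 0, 0) = D.u1 := by rw [vv_eq]; simp [ZMod.val_one]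
    rw [e1, k1, show Tt (1, 0, 0, 0, 0) = (1, 2, 0, 0, 0) by decide, vv_eq]
    simp [ZMod.val_one, val_two]
  · have e1 : D.vv (0, 1, 0, 0, 0) = D.u2 := by rw [vv_eq]; simp [ZMod.val_one]
    rw [e1, k2, show Tt (0, 1, 0, 0, 0) = (2, 0, 0, 0, 0) by decide, vv_eq]
    simp [ZMod.val_one, val_two]
  · have e1 : D.vv (0, 0, 1, 0, 0) = D.u3 := by rw [vv_eq]; simp [ZMod.val_one]
    rw [e1, k3, show Tt (0, 0, 1, 0, 0) = (0, 0, 1, 0, 0) by decide, vv_eq]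
    simp [ZMod.val_one]
  · have e1 : D.vv (0, 0, 0, 1, 0) = D.v1 := by rw [vv_eq]; simp [ZMod.val_one]
    rw [e1, k4, show Tt (0, 0, 0, 1, 0) = (2, 1, 0, 0, 1) by decide, vv_eq]
    simp [ZMod.val_one, val_two]
  · have e1 : D.vv (0, 0, 0, 0, 1) = D.v2 := by rw [vv_eq]; simp [ZMod.val_one]
    rw [e1, k5, show Tt (0, 0, 0, 0, 1) = (1, 0, 2, 1, 2) by decide, vv_eq]
    simp [ZMod.val_one, val_two]

theorem conj_uu_mem {K : Subgroup G} {s : G} (k1 : s⁻¹ * D.u1 * s ∈ K) (k2 : s⁻¹ * D.u2 * s ∈ K)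
    (k3 : s⁻¹ * D.u3 * s ∈ K) (k4 : s⁻¹ * D.u4 * s ∈ K) (k5 : s⁻¹ * D.u5 * s ∈ K) :
    ∀ x ∈ D.U, s⁻¹ * x * s ∈ K := by
  intro x hx
  obtain ⟨e, rfl⟩ := (D.mem_U).1 hx
  have hK : ∀ y z : G, s⁻¹ * y * s ∈ K → s⁻¹ * z * s ∈ K → s⁻¹ * (y * z) * s ∈ K := by
    intro y z hy hz
    have : s⁻¹ * (y * z) * s = (s⁻¹ * y * s) * (s⁻¹ * z * s) := by group
    rw [this]
    exact K.mul_mem hy hz
  have hP : ∀ (n : ℕ) (y : G), s⁻¹ * y * s ∈ K → s⁻¹ * y ^ n * s ∈ K := by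
    intro n y hy
    induction n with
    | zero =>
      have : s⁻¹ * y ^ 0 * s = 1 := by group
      rw [this]; exact K.one_mem
    | succ n ih => rw [pow_succ]; exact hK _ _ ih hy
  unfold uu
  exact hK _ _ (hK _ _ (hK _ _ (hK _ _ (hP _ _ k1) (hP _ _ k2)) (hP _ _ k3)) (hP _ _ k4)) (hP _ _ k5)

theorem TRel.conj_Tg (h : TRel D t) : ∀ x ∈ D.Tg, t⁻¹ * x * t ∈ D.Tg := by
  have m1 := D.U_le_Tg D.u1_mem
  have m2 := D.U_le_Tg D.u2_mem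
  have m3 := D.U_le_Tg D.u3_mem
  have m4 := D.U_le_Tg D.u4_mem
  have m5 := D.U_le_Tg D.u5_mem
  have n1 := D.v1_Tg
  have n2 := D.v2_Tg
  have n3 := D.r1_Tg
  have n4 := D.r2_Tg
  have M : ∀ {x y : G}, x ∈ D.Tg → y ∈ D.Tg → x * y ∈ D.Tg := fun hx hy => D.Tg.mul_mem hx hy
  have P : ∀ {x : G}, x ∈ D.Tg → ∀ n : ℕ, x ^ n ∈ D.Tg := fun hx n => D.Tg.pow_mem hx n
  have k1 : t⁻¹ * D.u1 * t = D.u1 * D.u2 ^ 2 := conj_eq_of (by rw [h.u1, mul_assoc])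
  have k2 : t⁻¹ * D.u2 * t = D.u1 ^ 2 := conj_eq_of h.u2
  have k3 : t⁻¹ * D.u3 * t = D.u3 := conj_eq_of h.u3
  have k4 : t⁻¹ * D.u4 * t = D.u3 ^ 2 * D.u5 ^ 2 := conj_eq_of (by rw [h.u4]; simp only [mul_assoc])
  have k5 : t⁻¹ * D.u5 * t = D.u3 * D.u4 := conj_eq_of (by rw [h.u5]; simp only [mul_assoc])
  have k6 : t⁻¹ * D.v1 * t = D.u1 ^ 2 * D.u2 * D.v2 := conj_eq_of (by rw [h.v1]; simp only [mul_assoc])
  have k7 : t⁻¹ * D.v2 * t = D.u1 * D.u3 ^ 2 * (D.v1 * D.v2 ^ 2) := conj_eq_of (by rw [h.v2]; simp only [mul_assoc])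
  have k8 : t⁻¹ * D.r1 * t = D.r2 ^ 2 * D.r1 ^ 2 * D.v2 * D.v1 ^ 2 * D.u1 ^ 2 * D.u2 ^ 2 * D.u4 * D.u5 :=
    conj_eq_of (by rw [h.r1]; simp only [mul_assoc])
  have k9 : t⁻¹ * D.r2 * t = D.r2 ^ 2 * D.r1 * D.v2 ^ 2 * D.v1 ^ 2 * D.u1 ^ 2 * D.u3 ^ 2 * D.u5 :=
    conj_eq_of (by rw [h.r2]; simp only [mul_assoc])
  refine adj_conj (adj_conj (adj_conj (adj_conj (conj_uu_mem ?_ ?_ ?_ ?_ ?_) ?_) ?_) ?_) ?_
  · rw [k1]; exact M m1 (P m2 2)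
  · rw [k2]; exact P m1 2
  · rw [k3]; exact m3
  · rw [k4]; exact M (P m3 2) (P m5 2)
  · rw [k5]; exact M m3 m4
  · rw [k6]; exact M (M (P m1 2) m2) n2
  · rw [k7]; exact M (M m1 (P m3 2)) (M n1 (P n2 2))
  · rw [k8]; exact M (M (M (M (M (M (M (P n4 2) (P n3 2)) n2) (P n1 2)) (P m1 2)) (P m2 2)) m4) m5
  · rw [k9]; exact M (M (M (M (M (M (P n4 2) n3) (P n2 2)) (P n1 2)) (P m1 2)) (P m3 2)) m5

theorem TRel.conj_pow_Tg (h : TRel D t) (n : ℕ) : ∀ x ∈ D.Tg, (t ^ n)⁻¹ * x * t ^ n ∈ D.Tg := by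
  induction n with
  | zero => intro x hx; rw [pow_zero, inv_one, one_mul, mul_one]; exact hx
  | succ n ih =>
    intro x hx
    have h1 := h.conj_Tg _ (ih x hx)
    have h2 : (t ^ (n + 1))⁻¹ * x * t ^ (n + 1) = t⁻¹ * ((t ^ n)⁻¹ * x * t ^ n) * t := by
      rw [pow_succ]; group
    rw [h2]
    exact h1

theorem TRel.inv_pow (h : TRel D t) (n : ℕ) : (t ^ n)⁻¹ = t ^ (7 * n) := by
  rw [inv_eq_iff_mul_eq_one, ← pow_add, show n + 7 * n = 8 * n by ring, pow_mul, h.pow8, one_pow]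

theorem TRel.conj_pow_Tg' (h : TRel D t) (n : ℕ) : ∀ x ∈ D.Tg, t ^ n * x * (t ^ n)⁻¹ ∈ D.Tg := by
  intro x hx
  have h1 := h.conj_pow_Tg (7 * n) x hx
  rwa [← h.inv_pow, inv_inv] at h1

/-- the group `Tg ⟨t⟩` -/
def TRel.B (h : TRel D t) : Subgroup G where
  carrier := {x | ∃ s ∈ D.Tg, ∃ n : ℕ, x = s * t ^ n}
  one_mem' := ⟨1, D.Tg.one_mem, 0, by simp⟩
  mul_mem' := by
    rintro _ _ ⟨s, hs, n, rfl⟩ ⟨s', hs', n', rfl⟩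
    refine ⟨s * (t ^ n * s' * (t ^ n)⁻¹), D.Tg.mul_mem hs (h.conj_pow_Tg' n s' hs'), n + n', ?_⟩
    rw [pow_add]
    group
  inv_mem' := by
    rintro _ ⟨s, hs, n, rfl⟩
    refine ⟨(t ^ n)⁻¹ * s⁻¹ * t ^ n, h.conj_pow_Tg n _ (D.Tg.inv_mem hs), 7 * n, ?_⟩
    rw [← h.inv_pow]
    group

theorem TRel.mem_B (h : TRel D t) {x : G} : x ∈ h.B ↔ ∃ s ∈ D.Tg, ∃ n : ℕ, x = s * t ^ n := Iff.rfl

theorem TRel.Tg_le_B (h : TRel D t) : D.Tg ≤ h.B := fun x hx => ⟨x, hx, 0, by simp⟩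

theorem TRel.t_mem_B (h : TRel D t) : t ∈ h.B := ⟨1, D.Tg.one_mem, 1, by simp⟩

/-- `Tg` is normal in `B` -/
theorem TRel.B_conj (h : TRel D t) {b x : G} (hb : b ∈ h.B) (hx : x ∈ D.Tg) : b * x * b⁻¹ ∈ D.Tg := by
  obtain ⟨s, hs, n, rfl⟩ := hb
  have h1 := D.Tg.mul_mem (D.Tg.mul_mem hs (h.conj_pow_Tg' n x hx)) (D.Tg.inv_mem hs)
  have h2 : s * t ^ n * x * (s * t ^ n)⁻¹ = s * (t ^ n * x * (t ^ n)⁻¹) * s⁻¹ := by group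
  rw [h2]
  exact h1

/-- `Tg` is a Sylow 3-subgroup of `B` -/
theorem TRel.sylIn [Finite G] (h : TRel D t) (h1 : D.u1 ≠ 1) : SylIn 3 D.Tg h.B := by
  have : Fact (Nat.Prime 3) := ⟨Nat.prime_three⟩
  have hp : IsPGroup 3 D.Tg := IsPGroup.of_card (card_Tg h1)
  have hpB : IsPGroup 3 (D.Tg.subgroupOf h.B) := hp.comap_of_injective h.B.subtype h.B.subtype_injective
  obtain ⟨Q, hQ⟩ := hpB.exists_le_sylow
  -- `Q = Tg`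
  have h2 : ∀ x : h.B, x ∈ (Q : Subgroup h.B) → (x : G) ∈ D.Tg := by
    rintro ⟨x, s, hs, n, rfl⟩ hx
    have hsQ : (⟨s, h.Tg_le_B hs⟩ : h.B) ∈ (Q : Subgroup h.B) := hQ hs
    have h3 : (⟨t ^ n, h.B.pow_mem h.t_mem_B n⟩ : h.B) ∈ (Q : Subgroup h.B) := by
      have := (Q : Subgroup h.B).mul_mem ((Q : Subgroup h.B).inv_mem hsQ) hx
      have e : (⟨s, h.Tg_le_B hs⟩ : h.B)⁻¹ * ⟨s * t ^ n, s, hs, n, rfl⟩ = ⟨t ^ n, h.B.pow_mem h.t_mem_B n⟩ := by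
        apply Subtype.ext
        show s⁻¹ * (s * t ^ n) = t ^ n
        group
      rwa [e] at this
    obtain ⟨k, hk⟩ := Q.isPGroup' ⟨_, h3⟩
    have h4 : (t ^ n) ^ 3 ^ k = 1 := by
      have := congrArg (fun z : (Q : Subgroup h.B) => ((z : h.B) : G)) hk
      exact this
    have h5 : (t ^ n) ^ 8 = 1 := by rw [← pow_mul, mul_comm, pow_mul, h.pow8, one_pow]
    have h6 : t ^ n = 1 := by
      have h7 := orderOf_dvd_of_pow_eq_one h4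
      have h8 := orderOf_dvd_of_pow_eq_one h5
      have h9 : Nat.Coprime (3 ^ k) 8 := Nat.Coprime.pow_left k (by norm_num)
      exact orderOf_eq_one_iff.1 (Nat.eq_one_of_dvd_coprimes h9 h7 h8)
    show s * t ^ n ∈ D.Tg
    rw [h6, mul_one]
    exact hs
  have h3 : (Q : Subgroup h.B) = D.Tg.subgroupOf h.B := le_antisymm (fun x hx => h2 x hx) hQ
  refine ⟨h.Tg_le_B, ?_⟩
  have h4 := Q.card_eq_multiplicity
  have h5 : Nat.card Q = Nat.card D.Tg := by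
    show Nat.card (Q : Subgroup h.B) = _
    rw [h3, card_subgroupOf_of_le h.Tg_le_B]
  rw [← h5, h4]

end Cfsg.Agent.H775.Th
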